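import Cfsg.Agent.Lib.Known.G2FourMult.Data
import Cfsg.Agent.Lib.Known.F3Packed
import Cfsg.Agent.Lib.Lie.Chev.All

/-!
# The relations between the twelve dimensional root elements, up to sign
-/

set_option autoImplicit false
set_option maxRecDepth 100000
set_option maxHeartbeats 0

namespace CfsgLib.Known.G2FourMult

open Cfsg.Lie
open CfsgLib.Lie.Chev
open CfsgLib.Known.F3Packed

/-- The sum of two field codes. -/
def fadd (a b : ℕ) : ℕ :=
  ([[0, 1, 2, 3], [1, 0, 3, 2], [2, 3, 0, 1], [3, 2, 1, 0]].getD a []).getD b 0

/-- The product of two field codes. -/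
def fmul (a b : ℕ) : ℕ :=
  ([[0, 0, 0, 0], [0, 1, 2, 3], [0, 2, 3, 1], [0, 3, 1, 2]].getD a []).getD b 0

/-- Powers of a field code. -/
def fpow (a : ℕ) : ℕ → ℕ
  | 0 => 1
  | i + 1 => fmul (fpow a i) a

/-- The value of a term. -/
def termVal (C : ℤ) (i j t u : ℕ) : ℕ := bif decide (C % 2 = 0) then 0 else fmul (fpow t i) (fpow u j)

/-- The matrix of a root element. -/
def gM (r : ℕ) : ℕ → List ℕ
  | 0 => idm 12
  | k + 1 => (rootData.getD r []).getD k []

/-- The product of the commutator terms. -/
def wordM (r s t u : ℕ) : List ℕ :=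
  (chevG2.commTerms r s).foldr (fun e w => pm 12 (gM e.1 (termVal e.2.1 e.2.2.1 e.2.2.2 t u)) w) (idm 12)

/-- The relation of a pair of root elements. -/
def relChk (r s t u : ℕ) : Bool :=
  sgEq 12 (pm 12 (gM s u) (gM r t)) (pm 12 (pm 12 (gM r t) (gM s u)) (wordM r s t u))

/-- All relations starting at one root. -/
def rowChk (r : ℕ) : Bool :=
  (List.range 4).all fun t => (List.range 4).all fun u =>
    sgEq 12 (pm 12 (gM r t) (gM r u)) (gM r (fadd t u)) &&
      (List.range 12).all fun s => Nat.beq s r || Nat.beq s (chevG2.neg r) || relChk r s t u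

theorem gM_ok : ((List.range 12).all fun r => (List.range 4).all fun t => okMat 12 (gM r t)) = true := by
  decide +kernel

theorem row0 : rowChk 0 = true := by decide +kernel
theorem row1 : rowChk 1 = true := by decide +kernel
theorem row2 : rowChk 2 = true := by decide +kernel
theorem row3 : rowChk 3 = true := by decide +kernel
theorem row4 : rowChk 4 = true := by decide +kernel
theorem row5 : rowChk 5 = true := by decide +kernel
theorem row6 : rowChk 6 = true := by decide +kernel
theorem row7 : rowChk 7 = true := by decide +kernel
theorem row8 : rowChk 8 = true := by decide +kernel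
theorem row9 : rowChk 9 = true := by decide +kernel
theorem row10 : rowChk 10 = true := by decide +kernel
theorem row11 : rowChk 11 = true := by decide +kernel

theorem rows {r : ℕ} (h : r < 12) : rowChk r = true := by
  interval_cases r
  exacts [row0, row1, row2, row3, row4, row5, row6, row7, row8, row9, row10, row11]

/-- The two lifts at the short simple root anticommute. -/
theorem anti : sameList (pm 12 (gM 7 1) (gM 7 2)) (ng 12 (pm 12 (gM 7 2) (gM 7 1))) = true := by decide +kernel



end CfsgLib.Known.G2FourMult
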