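import Cfsg.Agent.Lib.Known.UnivTorusData
import Cfsg.Agent.Lib.Known.UnivTorusMult
import Cfsg.Agent.Lib.Known.UnivSplit

/-!
# Stem extensions of `G₂(4)` have kernel of order at most two

Self pairs at short roots form one orbit of the Weyl group and carry one value; modulo it the long roots
at 120 degrees are settled by writing one of them as a commutator of short roots.
-/

set_option autoImplicit false

namespace CfsgLib.Known.G2FourMult

open Cfsg.Lie
open CfsgLib.Lie.Chev
open CfsgLib.Known.Univ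
open scoped commutatorElement

universe u v

/-- odd coefficients -/
def csOdd (n : ℤ) : Bool := decide (n % 2 ≠ 0)

/-- commuting roots whose lifts commute once all self pairs do -/
def cm1B (D : ChevalleyDatum) (ok : ℤ → Bool) (r s : ℕ) : Bool :=
  commPair D r s && (Nat.beq r s || killB D ok r s || killB D ok s r || decoB D csOdd r s)

/-- `[a, b] = k` is a relation between sections -/
def relB (D : ChevalleyDatum) (ok : ℤ → Bool) (a b k : ℕ) : Bool :=
  okPair D a b && killB D ok a b && cm1B D ok b k && match D.commTerms a b with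
    | [(u, C, 1, 1)] => Nat.beq u k && csOdd C
    | _ => false

/-- `s = [a, b]` with `r` fixing `b` and moving `a` by roots close to commuting with `b` -/
def triB (D : ChevalleyDatum) (ok : ℤ → Bool) (r s : ℕ) : Bool :=
  match D.commTerms r s with
  | [(k, _, _, _)] => (List.range D.nroots).any fun a => (List.range D.nroots).any fun b =>
      (relB D ok a b s || relB D ok b a s) && cm1B D ok r b && okPair D r a && cm1B D ok r k && cm1B D ok s k &&
        (termRoots D r a).all fun q =>
          cm1B D ok q s && cm1B D ok q k && (cm1B D ok q b || relB D ok q b k || relB D ok b q k)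
  | _ => false

/-- The short roots. -/
def short : List ℕ := [2, 3, 4, 7, 8, 9]

/-- The reflection path from the short simple root. -/
def reach : ℕ → List ℕ
  | 0 => [7]
  | n + 1 => reach n ++ (reach n).flatMap fun p => (List.range 2).map fun i => auxG2.w i p

theorem reach_all : ∀ p ∈ short, p ∈ reach 5 := by decide +kernel

theorem short_step : ∀ p ∈ short, ∀ i < 2,
    auxG2.w i p ∈ short ∧ (auxG2.eta i p = 1 ∨ auxG2.eta i p = -1) := by decide +kernel

theorem self_chk : ((List.range 12).all fun r =>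
    decide (r ∈ short) || decoB chevG2 csOdd r r) = true := by decide +kernel

theorem expo_chk : ((List.range 12).all fun r => expB chevG2 (okMod 3) r) = true := by decide +kernel

theorem pairs_chk : ((List.range 12).all fun r => (List.range 12).all fun s =>
    Nat.beq s r || Nat.beq s (chevG2.neg r) || killB chevG2 (okMod 3) r s || killB chevG2 (okMod 3) s r ||
      ((chevG2.commTerms r s).isEmpty && decoB chevG2 csOdd r s) ||
      triB chevG2 (okMod 3) r s || (triB chevG2 (okMod 3) s r &&
        (termRoots chevG2 s r).all fun x => (termRoots chevG2 r s).any (Nat.beq x))) = true := by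
  decide +kernel

theorem cast_csOdd {K : Type*} [Field K] (h2 : (2 : K) = 0) {C : ℤ} (hC : csOdd C = true) : (C : K) ≠ 0 := by
  have h : C % 2 = 1 := (Int.emod_two_eq_zero_or_one C).resolve_left (of_decide_eq_true hC)
  rw [show C = 2 * (C / 2) + 1 by omega]
  simp [h2]

section Generic

variable {D : ChevalleyDatum} {X : Aux} {K : Type*} [Field K]
variable {G E : Type*} [Group G] [Group E] {S : CentExt D X K G E} {f : ℕ → K → E}
variable {ok : ℤ → Bool}

theorem cm_of_cm1B (h2 : (2 : K) = 0) (hok : ∀ n, ok n = true → ∃ c : K, c ≠ 0 ∧ c ^ n ≠ 1)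
    (hself : ∀ r < D.nroots, ∀ t u, cm S r r t u = 1) {r s : ℕ} (h : cm1B D ok r s = true) (t u : K) :
    cm S r s t u = 1 := by
  simp only [cm1B, Bool.and_eq_true, Bool.or_eq_true, nat_beq_iff] at h
  obtain ⟨hc, h⟩ := h
  obtain ⟨hr, hs, -, -⟩ := commPair_spec hc
  rcases h with ((h | h) | h) | h
  · subst h; exact hself r hr t u
  · exact cm_of_kill S hr hs (comm2_of_commPair S hc) (kill_of_killB S hok h) t u
  · exact cm_of_kill' S hr hs (comm2_of_commPair S hc) (kill_of_killB S hok h) t u
  · exact cm_of_decoB S (fun C hC => cast_csOdd h2 hC) h t u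

variable (hf : AllSect S f) (hpok : ∀ r < D.nroots, ∀ s < D.nroots, s ≠ r → s ≠ D.neg r → PairOK D X r s)
  (h2 : (2 : K) = 0) (hok : ∀ n, ok n = true → ∃ c : K, c ≠ 0 ∧ c ^ n ≠ 1)
  (hself : ∀ r < D.nroots, ∀ t u, cm S r r t u = 1)

include hf h2 hok hself in
theorem sect_commute {r s : ℕ} (h : cm1B D ok r s = true) (t u : K) : Commute (f r t) (f s u) := by
  have hc := h
  simp only [cm1B, Bool.and_eq_true] at hc
  obtain ⟨hr, hs, -, -⟩ := commPair_spec hc.1
  exact lifts_commute S (cm_of_cm1B h2 hok hself h) ((hf.sect r hr).lift t) ((hf.sect s hs).lift u)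

include hf hpok h2 hok hself in
theorem relation_of_relB {a b k : ℕ} (h : relB D ok a b k = true) :
    k < D.nroots ∧ ∃ C : K, C ≠ 0 ∧ ∀ x y, ⁅(f b y)⁻¹, (f a x)⁻¹⁆ = f k (C * x * y) := by
  unfold relB at h
  rw [Bool.and_eq_true, Bool.and_eq_true, Bool.and_eq_true] at h
  obtain ⟨⟨⟨hab, hk⟩, hbk⟩, hm⟩ := h
  simp only [okPair, Bool.and_eq_true, nat_blt_iff, Bool.not_eq_true'] at hab
  obtain ⟨⟨⟨ha, hb⟩, h1⟩, h1'⟩ := hab
  rw [← Bool.not_eq_true, nat_beq_iff] at h1 h1'
  split at hm
  swap
  · exact absurd hm Bool.false_ne_true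
  next k' C e =>
  rw [Bool.and_eq_true, nat_beq_iff] at hm
  obtain ⟨rfl, hC⟩ := hm
  have hterm : termRoots D a b = [k'] := by simp [termRoots, e]
  obtain ⟨lam, hla, hlb, -, hin⟩ := hpok a ha b hb h1 h1'
  have hkn : k' < D.nroots := (S.R.cert.commTerms_props ha hb (k', C, 1, 1) (by rw [e]; simp)).1
  have hg : Goal D f a b := by
    refine goal_of_kill hf ha hb h1 h1' (kill_of_killB S hok hk) hla hlb fun p hp q hq hpq => ⟨?_, (hin p hp q hq hpq).2⟩
    rw [hterm] at hp hq
    simp only [List.mem_cons, List.not_mem_nil, or_false] at hp hq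
    rcases hp with rfl | rfl <;> rcases hq with rfl | rfl
    · exact absurd rfl hpq
    · exact goal_of_cm hf hb hkn (cm_of_cm1B h2 hok hself hbk)
    · exact goal_of_cm hf hkn hb fun t u => by rw [← cm_inv S, cm_of_cm1B h2 hok hself hbk, inv_one]
    · exact absurd rfl hpq
  refine ⟨hkn, (C : K), cast_csOdd h2 hC, fun x y => ?_⟩
  have hrel := relation_of_goal hf ha hb h1 h1' hla hlb
    (fun p hp q hq hpq => by
      rw [hterm, List.mem_singleton] at hp hq
      exact absurd (hq.trans hp.symm) hpq) hg x y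
  simp only [ChevalleyDatum.commWord, e, List.map_cons, List.map_nil, List.prod_cons, List.prod_nil, mul_one,
    pow_one] at hrel
  rw [commutatorElement_def, inv_inv, inv_inv, mul_assoc, hrel]
  group
  refine congrArg (f k') ?_
  linear_combination -((C : K) * x * y) * h2

include hf hpok h2 hok hself in
theorem relation_of_relB' {a b k : ℕ} (h : (relB D ok a b k || relB D ok b a k) = true) :
    k < D.nroots ∧ ∃ C : K, C ≠ 0 ∧ ∀ x y, ⁅(f b y)⁻¹, (f a x)⁻¹⁆ = f k (C * x * y) := by
  rw [Bool.or_eq_true] at h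
  rcases h with h | h
  · exact relation_of_relB hf hpok h2 hok hself h
  obtain ⟨hk, C, hC, h⟩ := relation_of_relB hf hpok h2 hok hself h
  refine ⟨hk, -C, neg_ne_zero.2 hC, fun x y => ?_⟩
  rw [← commutatorElement_inv, h y x, show -C * x * y = -(C * y * x) by ring, sect_neg hf hk]

include hf hpok h2 hok hself in
theorem goal_of_triB {r s : ℕ} (h : triB D ok r s = true) : Goal D f r s := by
  classical
  unfold triB at h
  split at h
  swap
  · exact absurd h Bool.false_ne_true
  next k C₀ i₀ j₀ ers =>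
  simp only [List.any_eq_true, List.mem_range, Bool.and_eq_true, List.all_eq_true] at h
  obtain ⟨a, ha, b, hb, ⟨⟨⟨⟨hrel, hrb⟩, hra⟩, hrk⟩, hsk⟩, hq⟩ := h
  simp only [okPair, Bool.and_eq_true, nat_blt_iff, Bool.not_eq_true'] at hra
  obtain ⟨⟨⟨hr, -⟩, hra1⟩, hra2⟩ := hra
  rw [← Bool.not_eq_true, nat_beq_iff] at hra1 hra2
  obtain ⟨hs, C, hC, hcs⟩ := relation_of_relB' hf hpok h2 hok hself hrel
  intro t u
  have hterm : termRoots D r s = [k] := by simp [termRoots, ers]
  obtain ⟨H, hH⟩ : ∃ H : Subgroup E, H = US f (termRoots D r s).toFinset := ⟨_, rfl⟩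
  have hHk : ∀ x : E, (∀ w, Commute x (f k w)) → ∀ y ∈ H, Commute x y := by
    intro x hx y hy
    rw [hH] at hy
    induction hy using Subgroup.closure_induction with
    | one => exact Commute.one_right _
    | mem g hg =>
      obtain ⟨k', hk', w, rfl⟩ := hg
      rw [hterm, List.mem_toFinset, List.mem_singleton] at hk'
      subst hk'
      exact hx w
    | mul g g' _ _ i i' => exact i.mul_right i'
    | inv g _ i => exact i.inv_right
  have hfk : ∀ w, f k w ∈ H := fun w => by
    rw [hH]; exact mem_US (List.mem_toFinset.2 (by rw [hterm]; simp)) w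
  obtain ⟨A, hA⟩ : ∃ A, A = f a (-1) := ⟨_, rfl⟩
  obtain ⟨B, hB⟩ : ∃ B, B = f b (-(u / C)) := ⟨_, rfl⟩
  obtain ⟨Y, hY⟩ : ∃ Y, Y = f r t := ⟨_, rfl⟩
  obtain ⟨Z, hZ⟩ : ∃ Z, Z = f s u := ⟨_, rfl⟩
  have hBA : ⁅B⁻¹, A⁻¹⁆ = Z := by
    rw [hA, hB, hZ, hcs, show C * -1 * -(u / C) = u by field_simp]
  obtain ⟨W, hW⟩ : ∃ W : E, W = ((D.commWord K r a (-t) (-1)).map fun p => f p.1 p.2).prod := ⟨_, rfl⟩
  obtain ⟨M, hM⟩ : ∃ M : Set E, M = {x | Commute x Z ∧ (∀ y ∈ H, Commute x y) ∧ B⁻¹ * x * B * x⁻¹ ∈ H} :=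
    ⟨_, rfl⟩
  have hMgen : ∀ q ∈ termRoots D r a, ∀ w, f q w ∈ M := by
    intro q hq' w
    obtain ⟨⟨hqs, hqk⟩, hqb⟩ := hq q hq'
    rw [hM]
    refine ⟨hZ ▸ sect_commute hf h2 hok hself hqs w u, hHk _ (fun v => sect_commute hf h2 hok hself hqk w v), ?_⟩
    rw [Bool.or_eq_true, Bool.or_eq_true, or_assoc] at hqb
    rcases hqb with hqb | hqb
    · rw [mul_assoc _ (f q w) B, (hB ▸ sect_commute hf h2 hok hself hqb w _ : Commute (f q w) B).eq]
      group
      exact one_mem _
    · obtain ⟨hk, C', -, hc'⟩ := relation_of_relB' hf hpok h2 hok hself ((Bool.or_eq_true _ _).symm ▸ hqb)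
      have e := hc' (-w) (-(u / C))
      rw [sect_neg hf (show q < D.nroots from (hgt_terms hf 0 hr ha hq').1), inv_inv] at e
      have e2 : B⁻¹ * f q w * B * (f q w)⁻¹ = ⁅(f b (-(u / C)))⁻¹, f q w⁆ := by
        rw [hB, commutatorElement_def, inv_inv]
      rw [e2, e]
      exact hfk _
  have hWM : W ∈ M := by
    rw [hW]
    have hone : (1 : E) ∈ M := by
      rw [hM]; exact ⟨Commute.one_left _, fun y _ => Commute.one_left _, by simp⟩
    have hmul : ∀ x y, x ∈ M → y ∈ M → x * y ∈ M := by
      intro x y hx hy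
      rw [hM] at hx hy ⊢
      obtain ⟨x1, x2, x3⟩ := hx
      obtain ⟨y1, y2, y3⟩ := hy
      refine ⟨x1.mul_left y1, fun z hz => (x2 z hz).mul_left (y2 z hz), ?_⟩
      rw [show B⁻¹ * (x * y) * B * (x * y)⁻¹ = (B⁻¹ * x * B * x⁻¹) * (x * (B⁻¹ * y * B * y⁻¹) * x⁻¹) by group,
        (x2 _ y3).eq, mul_inv_cancel_right]
      exact mul_mem x3 y3
    have key : ∀ L : List E, (∀ x ∈ L, x ∈ M) → L.prod ∈ M := by
      intro L hL
      induction L with
      | nil => exact hone
      | cons x L ih =>
        rw [List.prod_cons]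
        exact hmul _ _ (hL x (by simp)) (ih fun y hy => hL y (by simp [hy]))
    refine key _ fun x hx => ?_
    simp only [ChevalleyDatum.commWord, List.map_map, List.mem_map, Function.comp_apply] at hx
    obtain ⟨c, hc, rfl⟩ := hx
    exact hMgen c.1 (List.mem_map.2 ⟨c, hc, rfl⟩) _
  rw [hM] at hWM
  obtain ⟨hWZ, hWH, hWB⟩ := hWM
  have hYB : Commute Y B := hY ▸ hB ▸ sect_commute hf h2 hok hself hrb t _
  have hπA : S.π (Y * A * Y⁻¹) = S.π (A * W) := by
    have e' := S.R.xe_comm r a (-t) (-1) hr ha hra1 hra2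
    have e'' : S.π W = ((D.commWord K r a (-t) (-1)).map fun p => S.R.xe p.1 p.2).prod :=
      hW ▸ π_word hf hr ha _ _
    rw [S.R.xe_neg ⟨r, hr⟩] at e'
    rw [map_mul, map_mul, map_inv, map_mul, e'', hY, hA, (hf.sect r hr).lift, (hf.sect a ha).lift, mul_assoc, e']
    group
  have hconj : Y * Z * Y⁻¹ = (B⁻¹ * W⁻¹ * B * W) * Z := by
    rw [← hBA, show Y * ⁅B⁻¹, A⁻¹⁆ * Y⁻¹ = ⁅(Y * B * Y⁻¹)⁻¹, (Y * A * Y⁻¹)⁻¹⁆ by
      simp only [commutatorElement_def]; group, hYB.eq, mul_inv_cancel_right,
      comm_congr S (rfl : S.π B⁻¹ = S.π B⁻¹) (b' := (A * W)⁻¹) (by rw [map_inv, map_inv, hπA]),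
      show ⁅B⁻¹, (A * W)⁻¹⁆ = (B⁻¹ * W⁻¹ * B * W) * (W⁻¹ * ⁅B⁻¹, A⁻¹⁆ * W) by
        simp only [commutatorElement_def]; group, hBA, mul_assoc W⁻¹, ← hWZ.eq, inv_mul_cancel_left]
  have hmem : B⁻¹ * W⁻¹ * B * W ∈ H := by
    rw [show B⁻¹ * W⁻¹ * B * W = W⁻¹ * (B⁻¹ * W * B * W⁻¹)⁻¹ * W by group, mul_assoc,
      ← (hWH _ (inv_mem hWB)).eq, inv_mul_cancel_left]
    exact inv_mem hWB
  have hd : (Y * Z)⁻¹ * (Z * Y) = Y⁻¹ * (B⁻¹ * W⁻¹ * B * W)⁻¹ * Y := by
    rw [show (Y * Z)⁻¹ * (Z * Y) = Y⁻¹ * ((Y * Z * Y⁻¹)⁻¹ * Z) * Y by group, hconj, mul_inv_rev,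
      mul_assoc Z⁻¹, ← (hHk Z (fun v => hZ ▸ sect_commute hf h2 hok hself hsk u v) _ (inv_mem hmem)).eq,
      inv_mul_cancel_left]
  rw [← hY, ← hZ, ← hH, hd]
  rw [mul_assoc, ← (hHk Y (fun v => hY ▸ sect_commute hf h2 hok hself hrk t v) _ (inv_mem hmem)).eq,
    inv_mul_cancel_left]
  exact inv_mem hmem

end Generic

section Concrete

variable {K : Type u} [Field K] [Fintype K] (hK : Fintype.card K = 4)

include hK in
theorem two_eq_zero : (2 : K) = 0 := by
  have h := Nat.cast_card_eq_zero (R := K)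
  rw [hK] at h
  exact mul_self_eq_zero.1 (by linear_combination h)

/-- An element outside the prime field. -/
noncomputable def om : K := (exists_ne_zero_one (K := K) (by omega : 3 ≤ Fintype.card K)).choose

include hK in
theorem om_span (x : K) : ∃ i j : ℕ, x = i + j * om hK := by
  classical
  obtain ⟨h0, h1⟩ : om hK ≠ 0 ∧ om hK ≠ 1 :=
    (exists_ne_zero_one (K := K) (by omega : 3 ≤ Fintype.card K)).choose_spec
  have h2 := two_eq_zero hK
  have hs : ({0, 1, om hK, 1 + om hK} : Finset K).card = 4 := by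
    have a : (0 : K) ≠ 1 + om hK := fun e => h1 (by linear_combination -e - h2)
    have b : (1 : K) ≠ 1 + om hK := fun e => h0 (by linear_combination -e)
    have c : om hK ≠ 1 + om hK := fun e => one_ne_zero (α := K) (by linear_combination -e)
    rw [Finset.card_insert_of_notMem (by simp [Ne.symm h0, a, zero_ne_one]),
      Finset.card_insert_of_notMem (by simp [Ne.symm h1, b]),
      Finset.card_insert_of_notMem (by simp [c]), Finset.card_singleton]
  have hx : x ∈ ({0, 1, om hK, 1 + om hK} : Finset K) := by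
    rw [Finset.eq_univ_of_card _ (hs.trans hK.symm)]
    exact Finset.mem_univ x
  simp only [Finset.mem_insert, Finset.mem_singleton] at hx
  rcases hx with rfl | rfl | rfl | rfl
  · exact ⟨0, 0, by simp⟩
  · exact ⟨1, 0, by simp⟩
  · exact ⟨0, 1, by simp⟩
  · exact ⟨1, 1, by simp⟩

variable {G : Type v} [Group G] {E : Type v} [Group E] (S : CentExt chevG2 auxG2 K G E)

/-- The value at the short simple root. -/
noncomputable def gen : E := cm S 7 7 1 (om hK)

theorem gen_mem_ker : gen hK S ∈ S.π.ker :=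
  cm_mem_ker S (comm2_self S (show 7 < chevG2.nroots from by decide)) _ _

include hK in
theorem gen_pow : gen hK S ^ 2 = 1 := by
  have hs : 7 < chevG2.nroots := by decide
  have hc := comm2_self S hs
  rw [gen, ← add_map_nsmul (cm_add_right S hs hc 1) (om hK) 2, Nat.cast_ofNat, two_eq_zero hK, zero_mul,
    add_map_zero (cm_add_right S hs hc 1)]

include hK in
theorem cm_first (t u : K) : cm S 7 7 t u ∈ Subgroup.zpowers (gen hK S) := by
  have hs : 7 < chevG2.nroots := by decide
  have hc := comm2_self S hs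
  have hbase : ∀ x : K, x = 1 ∨ x = om hK → ∀ y : K, y = 1 ∨ y = om hK →
      cm S 7 7 x y ∈ Subgroup.zpowers (gen hK S) := by
    rintro x (rfl | rfl) y (rfl | rfl)
    · rw [cm, commutatorElement_self]; exact one_mem _
    · exact Subgroup.mem_zpowers _
    · rw [← cm_inv]; exact inv_mem (Subgroup.mem_zpowers _)
    · rw [cm, commutatorElement_self]; exact one_mem _
  have hright : ∀ x : K, x = 1 ∨ x = om hK → ∀ y : K, cm S 7 7 x y ∈ Subgroup.zpowers (gen hK S) := by
    intro x hx y
    obtain ⟨i, j, rfl⟩ := om_span hK y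
    rw [← cm_add_right S hs hc, show (i : K) = (i : K) * 1 from (mul_one _).symm,
      add_map_nsmul (cm_add_right S hs hc x) 1 i, add_map_nsmul (cm_add_right S hs hc x) (om hK) j]
    exact mul_mem (pow_mem (hbase x hx 1 (Or.inl rfl)) _) (pow_mem (hbase x hx _ (Or.inr rfl)) _)
  obtain ⟨i, j, rfl⟩ := om_span hK t
  rw [← cm_inv, ← cm_add_right S hs hc, show (i : K) = (i : K) * 1 from (mul_one _).symm,
    add_map_nsmul (cm_add_right S hs hc u) 1 i, add_map_nsmul (cm_add_right S hs hc u) (om hK) j]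
  refine inv_mem (mul_mem (pow_mem ?_ _) (pow_mem ?_ _)) <;> rw [← cm_inv]
  · exact inv_mem (hright 1 (Or.inl rfl) u)
  · exact inv_mem (hright _ (Or.inr rfl) u)

include hK in
theorem cm_short {p : ℕ} (hp : p ∈ short) (t u : K) : cm S p p t u ∈ Subgroup.zpowers (gen hK S) := by
  have key : ∀ n, ∀ q ∈ reach n, q ∈ short ∧ ∀ t u : K, cm S q q t u ∈ Subgroup.zpowers (gen hK S) := by
    intro n
    induction n with
    | zero =>
      intro q hq
      rw [reach, List.mem_singleton] at hq
      subst hq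
      exact ⟨by decide, cm_first hK S⟩
    | succ n ih =>
      intro q hq
      rw [reach, List.mem_append] at hq
      rcases hq with hq | hq
      · exact ih q hq
      obtain ⟨o, ho, hq⟩ := List.mem_flatMap.1 hq
      obtain ⟨i, hi, rfl⟩ := List.mem_map.1 hq
      rw [List.mem_range] at hi
      obtain ⟨hoo, hov⟩ := ih o ho
      obtain ⟨hmem, he⟩ := short_step o hoo i hi
      refine ⟨hmem, fun t u => ?_⟩
      have h1 : o < chevG2.nroots := (show ∀ p ∈ short, p < chevG2.nroots by decide) o hoo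
      obtain ⟨g, hg⟩ := exists_move S (show i < chevG2.rank from hi)
      have key := conj_cm S hg h1 h1 t u
      rw [Subgroup.mem_center_iff.1 (S.central (cm_mem_ker S (comm2_self S h1) t u)) g, mul_inv_cancel_right] at key
      have e1 : (auxG2.eta i o : K) = 1 := by
        rcases he with e | e <;> rw [e]
        · exact Int.cast_one
        · rw [Int.cast_neg, Int.cast_one]; linear_combination -(two_eq_zero hK)
      rw [e1, one_mul, one_mul] at key
      rw [← key]
      exact hov t u
  exact (key 5 p (reach_all p hp)).2 t u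

include hK in
/-- The sections modulo the value at the short simple root. -/
theorem exists_sections (hG : Good S) (hz : ∀ p ∈ short, ∀ t u : K, cm S p p t u = 1) :
    ∃ f : ℕ → K → E, (∀ r, r < chevG2.nroots → ∀ t, S.π (f r t) = S.R.xe r t) ∧
      (∀ r t u, r < chevG2.nroots → f r t * f r u = f r (t + u)) ∧
      (∀ r t, ¬ r < chevG2.nroots → f r t = 1) ∧
      ∀ r s t u, r < chevG2.nroots → s < chevG2.nroots → s ≠ r → s ≠ chevG2.neg r →
        f s u * f r t = f r t * f s u * ((chevG2.commWord K r s t u).map fun p => f p.1 p.2).prod := by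
  classical
  have hok : ∀ n, okMod 3 n = true → ∃ c : K, c ≠ 0 ∧ c ^ n ≠ 1 := fun n hn =>
    exists_zpow_ne_finite (by
      rw [hK, show ((4 - 1 : ℕ) : ℤ) = ((3 : ℕ) : ℤ) from rfl, Int.dvd_iff_emod_eq_zero]
      exact of_decide_eq_true hn)
  have h2 := two_eq_zero hK
  have hself : ∀ r < chevG2.nroots, ∀ t u, cm S r r t u = 1 := by
    intro r hr
    have h := self_chk
    simp only [List.all_eq_true, List.mem_range, Bool.or_eq_true, decide_eq_true_eq] at h
    rcases h r hr with h | h
    · exact hz r h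
    · exact cm_of_decoB S (fun C hC => cast_csOdd h2 hC) h
  have hsect : ∀ r < chevG2.nroots, ∃ φ, IsSect S r φ := by
    intro r hr
    have h := expo_chk
    simp only [List.all_eq_true, List.mem_range] at h
    obtain ⟨n, hn, hc⟩ := scales_of_expB S (h r hr)
    obtain ⟨c, hc0, hc1⟩ := hok n hn
    obtain ⟨g, m, hg, em⟩ := hc c hc0
    exact exists_sect_torus hG hr (hself r hr) hg (em ▸ hc1)
  choose φ hφ using hsect
  let f : ℕ → K → E := fun r t => if h : r < chevG2.nroots then φ r h t else 1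
  have hf : AllSect S f :=
    ⟨fun r hr => by
      have : f r = φ r hr := funext fun t => dif_pos hr
      rw [this]; exact hφ r hr, fun r t hr => dif_neg hr⟩
  have hpok := pairOK_of_chk (D := chevG2) (X := auxG2) ordG2
  refine ⟨f, fun r hr => (hf.sect r hr).lift, fun r t u hr => (hf.sect r hr).add t u, hf.oob,
    sections_rel_goal hf hpok fun r hr s hs h1 h2' => ?_⟩
  have h := pairs_chk
  simp only [List.all_eq_true, List.mem_range, Bool.or_eq_true, Bool.and_eq_true, nat_beq_iff,
    List.isEmpty_iff, List.any_eq_true] at h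
  rcases h r hr s hs with (((((h | h) | h) | h) | ⟨hnil, h⟩) | h) | ⟨h, hsub⟩
  · exact absurd h h1
  · exact absurd h h2'
  · exact Or.inl (Or.inl (kill_of_killB S hok h))
  · exact Or.inl (Or.inr (kill_of_killB S hok h))
  · exact Or.inr (goal_of_cm hf hr hs (cm_of_decoB S (fun C hC => cast_csOdd h2 hC) h))
  · exact Or.inr (goal_of_triB hf hpok h2 hok hself h)
  · refine Or.inr (goal_symm hf (fun k hk => ?_) (goal_of_triB hf hpok h2 hok hself h))
    obtain ⟨x, hx, rfl⟩ := hsub k hk
    exact hx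

include hK in
theorem perfectData : Rel.PerfectData chevG2 K :=
  perfectData_of_mem (by simp) K fun _ => exists_ne_zero_one (by omega)

include hK in
/-- Perfect central extensions of the cover have kernel of order at most two. -/
theorem card_ker_le_cover {E : Type u} [Group E] [Finite E] (π : E →* chevG2.SteinbergCover K)
    (hs : Function.Surjective π) (hc : π.ker ≤ Subgroup.center E) (hE : commutator E = ⊤) :
    Nat.card π.ker ≤ 2 := by
  classical
  let S : CentExt chevG2 auxG2 K (chevG2.SteinbergCover K) E :=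
    { R := StCover.scRaw certG2 K, L := _, hL := witG2, π := π, surj := hs, central := hc }
  have hG : Good S := good_cover certG2 witG2 (perfectData hK) S rfl
  set N := Subgroup.zpowers (gen hK S) with hN
  have hNker : N ≤ π.ker := Subgroup.zpowers_le.2 (gen_mem_ker hK S)
  haveI : N.Normal := ⟨fun n hn g => by
    rwa [Subgroup.mem_center_iff.1 (hc (hNker hn)) g, mul_inv_cancel_right]⟩
  let π' : E ⧸ N →* chevG2.SteinbergCover K := QuotientGroup.lift N π hNker
  let S' : CentExt chevG2 auxG2 K (chevG2.SteinbergCover K) (E ⧸ N) :=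
    { R := S.R, L := S.L, hL := S.hL, π := π'
      surj := fun x => by obtain ⟨a, rfl⟩ := hs x; exact ⟨QuotientGroup.mk a, rfl⟩
      central := by
        intro q hq
        obtain ⟨g, rfl⟩ := QuotientGroup.mk_surjective q
        refine Subgroup.mem_center_iff.2 fun r => ?_
        obtain ⟨h, rfl⟩ := QuotientGroup.mk_surjective r
        exact congrArg QuotientGroup.mk (Subgroup.mem_center_iff.1 (hc hq) h) }
  have hG' : Good S' := ⟨hG.gen, hG.perfect, hG.oob⟩
  obtain ⟨f, h0, h1, hoob, h2⟩ := exists_sections hK S' hG' fun p hp t u => by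
    rw [← cm_eq S' (a := QuotientGroup.mk' N (lf S p t)) (b := QuotientGroup.mk' N (lf S p u)) (π_lf S _ _)
      (π_lf S _ _), ← map_commutatorElement]
    exact (QuotientGroup.eq_one_iff _).2 (cm_short hK S hp t u)
  obtain ⟨τ, hτ⟩ := exists_split π' h0 h1 hoob h2
  have hτx : ∀ x, π' (τ x) = x := fun x => DFunLike.congr_fun hτ x
  have hE' : commutator (E ⧸ N) = ⊤ := by
    rw [commutator_def, ← Subgroup.map_top_of_surjective _ (QuotientGroup.mk'_surjective N),
      ← Subgroup.map_commutator, ← commutator_def, hE]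
  have hτs : Function.Surjective τ := by
    have hsup : τ.range ⊔ π'.ker = ⊤ := eq_top_iff.2 fun g _ => by
      rw [show g = τ (π' g) * ((τ (π' g))⁻¹ * g) by group]
      exact Subgroup.mul_mem_sup ⟨_, rfl⟩ (by rw [MonoidHom.mem_ker, map_mul, map_inv, hτx, inv_mul_cancel])
    rw [← MonoidHom.range_eq_top, eq_top_iff, ← hE',
      CfsgLib.Schur.commutator_eq_map_of_range_sup τ π'.ker S'.central hsup]
    exact Subgroup.map_le_range _ _
  have hker : π.ker ≤ N := fun z hz => by
    obtain ⟨x, hx⟩ := hτs (QuotientGroup.mk z)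
    have hx1 : x = 1 := by rw [← hτx x, hx]; exact hz
    rw [hx1, map_one] at hx
    exact (QuotientGroup.eq_one_iff z).1 hx.symm
  refine (Nat.le_of_dvd Nat.card_pos (Subgroup.card_dvd_of_le hker)).trans ?_
  rw [Nat.card_zpowers]
  exact Nat.le_of_dvd (by norm_num) (orderOf_dvd_of_pow_eq_one (gen_pow hK S))

include hK in
/-- The presented group is the Chevalley group. -/
theorem nonempty_cover_equiv : Nonempty (chevG2.SteinbergCover K ≃* ↥(chevG2.group K)) := by
  have hconn : Rel.Connected chevG2 := connected_of_chk (by decide +kernel)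
  have hp := perfectData hK
  have hθc := StCover.ker_le_center certG2 (K := K) witG2 hconn hp
  have hcen : Nat.card (Subgroup.center (chevG2.SteinbergGroup K)) = 1 :=
    card_center_unimod certG2 K witG2 hconn cmat_G2 smithG2 (by decide +kernel)
  obtain ⟨eS, -⟩ := StCover.equiv_steinbergGroup certG2 (K := K) witG2
  have hker : (StCover.scTheta certG2 K).ker = ⊥ := by
    have hsub : Subsingleton (Subgroup.center (chevG2.SteinbergCover K)) := by
      have h1 : Nat.card (Subgroup.center (chevG2.SteinbergCover K)) = 1 :=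
        (Nat.card_congr (Subgroup.centerCongr eS).toEquiv).trans hcen
      exact (Nat.card_eq_one_iff_unique.1 h1).1
    refine (Subgroup.eq_bot_iff_forall _).2 fun z hz => ?_
    exact congrArg Subtype.val (Subsingleton.elim (⟨z, hθc hz⟩ : Subgroup.center (chevG2.SteinbergCover K)) 1)
  exact ⟨MulEquiv.ofBijective (StCover.scTheta certG2 K)
      ⟨(MonoidHom.ker_eq_bot_iff _).1 hker, StCover.scTheta_surjective certG2 K⟩⟩


include hK in
/-- The kernel of a stem extension of `G₂(4)` has order at most two. -/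
theorem card_ker_le {Γ : Type u} [Group Γ] [Finite Γ] (σ : Γ →* ↥(chevG2.group K))
    (hσ : Cfsg.IsStemExtension σ) : Nat.card σ.ker ≤ 2 := by
  obtain ⟨hs, hc, hd⟩ := hσ
  obtain ⟨e⟩ := nonempty_cover_equiv hK
  have hp := perfectData hK
  have hk : (e.symm.toMonoidHom.comp σ).ker = σ.ker := by ext; simp
  have hperf := StCover.commutator_eq_top certG2 witG2 hp
  have h := card_ker_le_cover hK (e.symm.toMonoidHom.comp σ) (e.symm.surjective.comp hs) (hk ▸ hc) (by
    exact CfsgLib.Schur.commutator_eq_top_of_central hperf (e.symm.toMonoidHom.comp σ)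
      (e.symm.surjective.comp hs) (hk ▸ hd))
  rwa [hk] at h

end Concrete

end CfsgLib.Known.G2FourMult
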