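import Cfsg.Agent.Lib.Known.G2FourMult.Checks
import Cfsg.Agent.Lib.Known.G2FourMult.Upper
import Cfsg.Agent.Lib.Schur.Multiplier
import Cfsg.Agent.S1055

/-!
# The Schur multiplier of `G₂(4)`

The listed matrices satisfy the relations of the Steinberg presentation up to sign; the matrices over
their images modulo sign form a double cover.
-/

set_option autoImplicit false
set_option maxRecDepth 10000

namespace CfsgLib.Known.G2FourMult

open Cfsg.Lie
open CfsgLib.Lie.Chev
open CfsgLib.Known
open scoped commutatorElement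
open CfsgLib.Known.F3Packed (Z pm ng idm sameList okMat toMat toMat_pm toMat_ng toMat_idm okMat_pm sgEq sgEq_spec
  sameList_eq)

/-- The invertible matrices. -/
abbrev U : Type := GL (Fin 12) Z

/-- The signs. -/
def Sg : Subgroup U := Subgroup.zpowers (-1)

theorem sg_le : Sg ≤ Subgroup.center U := by
  refine Subgroup.zpowers_le.2 (Subgroup.mem_center_iff.2 fun g => ?_)
  simp

instance : Sg.Normal := ⟨fun n hn g => by
  rwa [Subgroup.mem_center_iff.1 (sg_le hn) g, mul_inv_cancel_right]⟩

/-- The matrices modulo sign. -/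
abbrev Q : Type := U ⧸ Sg

theorem neg_one_mem : (-1 : U) ∈ Sg := Subgroup.mem_zpowers _

theorem mk_eq {a b : U} (h : (a : Matrix (Fin 12) (Fin 12) Z) = b ∨ (a : Matrix (Fin 12) (Fin 12) Z) = -b) :
    (QuotientGroup.mk a : Q) = QuotientGroup.mk b := by
  rcases h with h | h
  · rw [Units.ext h]
  · rw [show a = b * -1 from Units.ext (by rw [h]; simp)]
    exact (QuotientGroup.eq.2 (by rw [inv_mul_cancel_left]; exact neg_one_mem)).symm

theorem ok_gM {r t : ℕ} (hr : r < 12) (ht : t < 4) : okMat 12 (gM r t) = true := by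
  have h := gM_ok
  simp only [List.all_eq_true, List.mem_range] at h
  exact h r hr t ht

theorem ok_idm : okMat 12 (idm 12) = true := by decide +kernel

theorem fadd_lt : ∀ t < 4, ∀ u < 4, fadd t u < 4 := by decide

theorem fadd_self : ∀ t < 4, fadd t t = 0 := by decide

theorem sq_gM {r t : ℕ} (hr : r < 12) (ht : t < 4) :
    toMat 12 (gM r t) * toMat 12 (gM r t) = 1 ∨ toMat 12 (gM r t) * toMat 12 (gM r t) = -1 := by
  have h := rows hr
  simp only [rowChk, List.all_eq_true, List.mem_range, Bool.and_eq_true] at h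
  obtain ⟨h1, -⟩ := h t ht t ht
  rw [fadd_self t ht] at h1
  have h2 := sgEq_spec ok_idm h1
  rwa [toMat_pm (by norm_num) (ok_gM hr ht) (ok_gM hr ht), toMat_idm] at h2

/-- A root element as an invertible matrix. -/
noncomputable def gU (r : ℕ) (t : Fin 4) : U :=
  if hr : r < 12 then (show IsUnit (toMat 12 (gM r t.val)) from
    isUnit_of_mul_isUnit_left (y := toMat 12 (gM r t.val)) (by
      rcases sq_gM hr t.2 with e | e <;> rw [e]
      · exact isUnit_one
      · exact isUnit_one.neg)).unit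
  else 1

theorem val_gU {r : ℕ} (hr : r < 12) (t : Fin 4) :
    (gU r t : Matrix (Fin 12) (Fin 12) Z) = toMat 12 (gM r t.val) := by
  rw [gU, dif_pos hr]; rfl

/-- A root element modulo sign. -/
noncomputable def gQ (r t : ℕ) : Q := QuotientGroup.mk (gU r ⟨t % 4, Nat.mod_lt _ (by norm_num)⟩)

theorem val_mk {r t : ℕ} (hr : r < 12) (ht : t < 4) :
    (gU r ⟨t % 4, Nat.mod_lt _ (by norm_num)⟩ : Matrix (Fin 12) (Fin 12) Z) = toMat 12 (gM r t) := by
  rw [val_gU hr]; simp [Nat.mod_eq_of_lt ht]

theorem gQ_add {r t u : ℕ} (hr : r < 12) (ht : t < 4) (hu : u < 4) : gQ r t * gQ r u = gQ r (fadd t u) := by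
  have h := rows hr
  simp only [rowChk, List.all_eq_true, List.mem_range, Bool.and_eq_true] at h
  have h2 := sgEq_spec (ok_gM hr (fadd_lt t ht u hu)) (h t ht u hu).1
  rw [toMat_pm (by norm_num) (ok_gM hr ht) (ok_gM hr hu)] at h2
  rw [gQ, gQ, gQ, ← QuotientGroup.mk_mul]
  exact mk_eq (by rwa [Units.val_mul, val_mk hr ht, val_mk hr hu, val_mk hr (fadd_lt t ht u hu)])

/-- The commutator terms modulo sign. -/
noncomputable def wordQ (l : List (ℕ × ℤ × ℕ × ℕ)) (t u : ℕ) : Q :=
  (l.map fun e => gQ e.1 (termVal e.2.1 e.2.2.1 e.2.2.2 t u)).prod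

theorem fmul_lt : ∀ a < 4, ∀ b < 4, fmul a b < 4 := by decide

theorem fpow_lt {a : ℕ} (ha : a < 4) : ∀ i, fpow a i < 4
  | 0 => by simp [fpow]
  | i + 1 => fmul_lt _ (fpow_lt ha i) a ha

theorem termVal_lt {t u : ℕ} (ht : t < 4) (hu : u < 4) (C : ℤ) (i j : ℕ) : termVal C i j t u < 4 := by
  rw [termVal]
  cases decide (C % 2 = 0)
  · exact fmul_lt _ (fpow_lt ht i) _ (fpow_lt hu j)
  · exact Nat.zero_lt_succ _

theorem word_eq {t u : ℕ} (ht : t < 4) (hu : u < 4) : ∀ l : List (ℕ × ℤ × ℕ × ℕ), (∀ e ∈ l, e.1 < 12) →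
    ∃ w : U, (w : Matrix (Fin 12) (Fin 12) Z) =
        toMat 12 (l.foldr (fun e w => pm 12 (gM e.1 (termVal e.2.1 e.2.2.1 e.2.2.2 t u)) w) (idm 12)) ∧
      (QuotientGroup.mk w : Q) = wordQ l t u ∧
      okMat 12 (l.foldr (fun e w => pm 12 (gM e.1 (termVal e.2.1 e.2.2.1 e.2.2.2 t u)) w) (idm 12)) = true
  | [], _ => ⟨1, by simp [toMat_idm], by simp [wordQ], ok_idm⟩
  | e :: l, h => by
    obtain ⟨w, h1, h2, h3⟩ := word_eq ht hu l fun x hx => h x (List.mem_cons_of_mem _ hx)
    have hv := termVal_lt ht hu e.2.1 e.2.2.1 e.2.2.2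
    have he := ok_gM (h e List.mem_cons_self) hv
    refine ⟨gU e.1 ⟨termVal e.2.1 e.2.2.1 e.2.2.2 t u % 4, Nat.mod_lt _ (by norm_num)⟩ * w, ?_, ?_, ?_⟩
    · rw [Units.val_mul, val_mk (h e List.mem_cons_self) hv, h1, List.foldr_cons, toMat_pm (by norm_num) he h3]
    · rw [QuotientGroup.mk_mul, h2, wordQ, wordQ, List.map_cons, List.prod_cons]
      rfl
    · rw [List.foldr_cons]; exact okMat_pm he

theorem gQ_comm {r s t u : ℕ} (hr : r < 12) (hs : s < 12) (h1 : s ≠ r) (h2 : s ≠ chevG2.neg r) (ht : t < 4)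
    (hu : u < 4) : gQ s u * gQ r t = gQ r t * gQ s u * wordQ (chevG2.commTerms r s) t u := by
  have h := rows hr
  simp only [rowChk, List.all_eq_true, List.mem_range, Bool.and_eq_true, Bool.or_eq_true, nat_beq_iff] at h
  have h3 : relChk r s t u = true := by
    rcases (h t ht u hu).2 s hs with (h | h) | h
    · exact absurd h h1
    · exact absurd h h2
    · exact h
  obtain ⟨w, e1, e2, e3⟩ := word_eq ht hu (chevG2.commTerms r s) fun e he => (certG2.commTerms_props hr hs e he).1
  have ha := ok_gM hr ht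
  have hb := ok_gM hs hu
  have h4 := sgEq_spec (okMat_pm (okMat_pm ha)) h3
  rw [wordM, toMat_pm (by norm_num) hb ha, toMat_pm (by norm_num) (okMat_pm ha) e3, toMat_pm (by norm_num) ha hb,
    ← e1] at h4
  rw [gQ, gQ, ← e2, ← QuotientGroup.mk_mul, ← QuotientGroup.mk_mul, ← QuotientGroup.mk_mul]
  exact mk_eq (by rwa [Units.val_mul, Units.val_mul, Units.val_mul, val_mk hs hu, val_mk hr ht])

universe u

variable {F : Type u} [Field F] [Fintype F] (hF : Fintype.card F = 4)

/-- The field element of a code. -/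
noncomputable def dec (k : Fin 4) : F := ![0, 1, om hF, 1 + om hF] k

include hF in
theorem om_sq : om hF * om hF = 1 + om hF := by
  obtain ⟨h0, h1⟩ : om hF ≠ 0 ∧ om hF ≠ 1 :=
    (Univ.exists_ne_zero_one (K := F) (by omega : 3 ≤ Fintype.card F)).choose_spec
  have h3 : om hF ^ 3 = 1 := by
    have := FiniteField.pow_card_sub_one_eq_one (om hF) h0
    rwa [hF] at this
  have h4 : (om hF - 1) * (om hF * om hF + om hF + 1) = 0 := by linear_combination h3
  linear_combination (mul_eq_zero.1 h4).resolve_left (sub_ne_zero.2 h1) - (om hF + 1) * two_eq_zero hF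

include hF in
theorem dec_add (a b : Fin 4) :
    dec hF a + dec hF b = dec hF ⟨fadd a.val b.val, fadd_lt _ a.2 _ b.2⟩ := by
  have h2 := two_eq_zero hF
  fin_cases a <;> fin_cases b <;> simp [dec, fadd] <;>
    first
      | (linear_combination h2)
      | (linear_combination (om hF) * h2)
      | (linear_combination (1 + om hF) * h2)
      | ring

include hF in
theorem dec_mul (a b : Fin 4) :
    dec hF a * dec hF b = dec hF ⟨fmul a.val b.val, fmul_lt _ a.2 _ b.2⟩ := by
  have h2 := two_eq_zero hF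
  have h3 := om_sq hF
  fin_cases a <;> fin_cases b <;> simp [dec, fmul] <;>
    first
      | (linear_combination h3)
      | (linear_combination h3 + (om hF) * h2)
      | (linear_combination h3 + h2)
      | (linear_combination h3 + (1 + om hF) * h2)

include hF in
theorem dec_bijective : Function.Bijective (dec hF) := by
  refine (Fintype.bijective_iff_surjective_and_card _).2 ⟨fun x => ?_, by rw [hF, Fintype.card_fin]⟩
  have h2 : ∀ n : ℕ, (n : F) = 0 ∨ (n : F) = 1 := fun n => by
    induction n with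
    | zero => exact Or.inl Nat.cast_zero
    | succ n ih =>
      rcases ih with e | e <;> rw [Nat.cast_succ, e]
      · exact Or.inr (zero_add 1)
      · exact Or.inl (by linear_combination two_eq_zero hF)
  obtain ⟨i, j, rfl⟩ := om_span hF x
  rcases h2 i with e | e <;> rcases h2 j with e' | e' <;> rw [e, e']
  · exact ⟨0, by simp [dec]⟩
  · exact ⟨2, by simp [dec]⟩
  · exact ⟨1, by simp [dec]⟩
  · exact ⟨3, by simp [dec]⟩

/-- The code of a field element. -/
noncomputable def enc (x : F) : ℕ := ((Equiv.ofBijective (dec hF) (dec_bijective hF)).symm x).val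

include hF in
theorem dec_enc (x : F) : dec hF ⟨enc hF x, Fin.is_lt _⟩ = x :=
  Equiv.ofBijective_apply_symm_apply (dec hF) (dec_bijective hF) x

include hF in
theorem enc_dec (k : Fin 4) : enc hF (dec hF k) = k.val :=
  congrArg Fin.val (Equiv.ofBijective_symm_apply_apply (dec hF) (dec_bijective hF) k)

include hF in
theorem enc_lt (x : F) : enc hF x < 4 := Fin.is_lt _

include hF in
theorem enc_add (x y : F) : enc hF (x + y) = fadd (enc hF x) (enc hF y) := by
  conv_lhs => rw [← dec_enc hF x, ← dec_enc hF y, dec_add, enc_dec]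

include hF in
theorem enc_mul (x y : F) : enc hF (x * y) = fmul (enc hF x) (enc hF y) := by
  conv_lhs => rw [← dec_enc hF x, ← dec_enc hF y, dec_mul, enc_dec]

include hF in
theorem enc_pow (x : F) : ∀ i : ℕ, enc hF (x ^ i) = fpow (enc hF x) i
  | 0 => by
    rw [pow_zero, show (1 : F) = dec hF 1 by simp [dec], enc_dec]
    rfl
  | i + 1 => by rw [pow_succ, enc_mul, enc_pow x i, fpow]

include hF in
theorem enc_term (C : ℤ) (i j : ℕ) (t u : F) :
    enc hF ((C : F) * t ^ i * u ^ j) = termVal C i j (enc hF t) (enc hF u) := by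
  have h2 := two_eq_zero hF
  rw [termVal]
  rcases Int.emod_two_eq_zero_or_one C with h | h
  · have e : (C : F) = 0 := by
      rw [show C = 2 * (C / 2) by omega, Int.cast_mul, Int.cast_ofNat, h2, zero_mul]
    rw [e, zero_mul, zero_mul, decide_eq_true h, cond_true, show (0 : F) = dec hF 0 by simp [dec], enc_dec]
    rfl
  · have e : (C : F) = 1 := by
      rw [show C = 2 * (C / 2) + 1 by omega, Int.cast_add, Int.cast_mul, Int.cast_ofNat, h2, zero_mul, zero_add,
        Int.cast_one]
    rw [e, one_mul, decide_eq_false (by omega), cond_false, enc_mul, enc_pow, enc_pow]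

include hF in
/-- The root elements modulo sign satisfy the relations. -/
theorem exists_hom : ∃ τ : chevG2.SteinbergCover F →* Q,
    ∀ r t, r < 12 → τ (chevG2.scGen F r t) = gQ r (enc hF t) := by
  have hn : chevG2.nroots = 12 := rfl
  let f : Fin chevG2.nroots × F → Q := fun p => gQ p.1 (enc hF p.2)
  have hlift : ∀ (r : ℕ) (t : F), r < 12 → FreeGroup.lift f (chevG2.stX r t) = gQ r (enc hF t) := fun r t hr => by
    rw [ChevalleyDatum.stX, dif_pos (show r < chevG2.nroots from hr)]
    exact FreeGroup.lift_apply_of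
  have hrels : ∀ g ∈ chevG2.steinbergRelsAB F, FreeGroup.lift f g = 1 := by
    rintro g (⟨r, t, u, hr, rfl⟩ | ⟨r, s, t, u, hr, hs, hne, hneg, rfl⟩)
    · simp only [map_mul, map_inv, hlift _ _ hr, mul_inv_eq_one]
      rw [enc_add hF]
      exact gQ_add hr (enc_lt hF t) (enc_lt hF u)
    · have hw : FreeGroup.lift f (chevG2.stWord (chevG2.commWord F r s t u)) =
          wordQ (chevG2.commTerms r s) (enc hF t) (enc hF u) := by
        simp only [ChevalleyDatum.stWord, ChevalleyDatum.commWord, map_list_prod, List.map_map, wordQ]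
        refine congrArg List.prod (List.map_congr_left fun e he => ?_)
        simp only [Function.comp_apply]
        rw [hlift _ _ (certG2.commTerms_props hr hs e he).1,
          show -t = t by linear_combination -t * two_eq_zero hF, enc_term]
      simp only [map_mul, map_inv, hlift _ _ hr, hlift _ _ hs, hw, mul_inv_eq_one]
      rw [mul_assoc _ (gQ s _) (gQ r _), gQ_comm hr hs hne hneg (enc_lt hF t) (enc_lt hF u)]
      group
  refine ⟨PresentedGroup.toGroup hrels, fun r t hr => ?_⟩
  rw [ChevalleyDatum.scGen, ChevalleyDatum.stX, dif_pos (show r < chevG2.nroots from hr)]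
  exact PresentedGroup.toGroup.of hrels

theorem one_ne_neg_one : (1 : U) ≠ -1 := fun h => by
  have h2 : ((1 : U) : Matrix (Fin 12) (Fin 12) Z) 0 0 = ((-1 : U) : Matrix (Fin 12) (Fin 12) Z) 0 0 := by rw [← h]
  simp at h2
  exact absurd h2 (by decide)

theorem card_sg : Nat.card Sg = 2 := by
  rw [Sg, Nat.card_zpowers]
  exact orderOf_eq_prime neg_one_sq (Ne.symm one_ne_neg_one)

theorem anti_gU : gU 7 1 * gU 7 2 = gU 7 2 * gU 7 1 * -1 := by
  refine Units.ext ?_
  have h := congrArg (toMat 12) (sameList_eq anti)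
  rw [toMat_ng (okMat_pm (ok_gM (by norm_num) (by norm_num))), toMat_pm (by norm_num) (ok_gM (by norm_num) (by norm_num))
    (ok_gM (by norm_num) (by norm_num)), toMat_pm (by norm_num) (ok_gM (by norm_num) (by norm_num))
    (ok_gM (by norm_num) (by norm_num))] at h
  simp only [Units.val_mul, Units.val_neg, Units.val_one, val_gU (show 7 < 12 by norm_num), mul_neg, mul_one]
  exact h

theorem moved : gQ 7 1 ≠ 1 := fun h => by
  rw [gQ, QuotientGroup.eq_one_iff] at h
  have hc := Subgroup.mem_center_iff.1 (sg_le h) (gU 7 2)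
  have h2 := anti_gU
  rw [show (⟨1 % 4, Nat.mod_lt _ (by norm_num)⟩ : Fin 4) = 1 from rfl] at hc
  rw [← hc] at h2
  exact one_ne_neg_one (mul_eq_left.1 h2.symm).symm

include hF in
/-- The Schur multiplier of `G₂(4)`. -/
theorem hasCyclicSchurMultiplier : Cfsg.HasCyclicSchurMultiplier ↥(chevG2.group F) 2 := by
  classical
  obtain ⟨φ, hφ⟩ := exists_hom hF
  obtain ⟨hsimple, -⟩ := Cfsg.Agent.S1055.result (F := F) (Univ.exists_ne_zero_one (by omega))
  obtain ⟨e⟩ : Nonempty (chevG2.SteinbergCover F ≃* ↥(chevG2.group F)) := nonempty_cover_equiv hF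
  let ψ : ↥(chevG2.group F) →* Q := φ.comp e.symm.toMonoidHom
  have hψi : Function.Injective ψ := by
    rcases IsSimpleGroup.eq_bot_or_eq_top_of_normal ψ.ker ψ.normal_ker with h | h
    · exact (MonoidHom.ker_eq_bot_iff ψ).1 h
    · exfalso
      have h1 : ψ (e (chevG2.scGen F 7 (dec hF 1))) = 1 := MonoidHom.mem_ker.1 (h ▸ Subgroup.mem_top _)
      simp only [ψ, MonoidHom.comp_apply, MulEquiv.coe_toMonoidHom, MulEquiv.symm_apply_apply] at h1
      rw [hφ 7 _ (by norm_num), enc_dec] at h1
      exact moved h1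
  let E : Subgroup U := ψ.range.comap (QuotientGroup.mk' Sg)
  let π : E →* ↥(chevG2.group F) := (MonoidHom.ofInjective hψi).symm.toMonoidHom.comp
    (((QuotientGroup.mk' Sg).comp E.subtype).codRestrict ψ.range fun g => g.2)
  have hπ : ∀ g : E, ψ (π g) = QuotientGroup.mk' Sg g := fun g =>
    congrArg Subtype.val ((MonoidHom.ofInjective hψi).apply_symm_apply ⟨_, g.2⟩)
  have hker : ∀ g : E, g ∈ π.ker ↔ (g : U) ∈ Sg := fun g => by
    rw [MonoidHom.mem_ker, ← hψi.eq_iff, hπ, map_one]
    exact QuotientGroup.eq_one_iff _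
  have hmem : ∀ r : ℕ, r < 12 → ∀ k : Fin 4, gU r k ∈ E := fun r hr k => by
    refine ⟨e (chevG2.scGen F r (dec hF k)), ?_⟩
    simp only [ψ, MonoidHom.comp_apply, MulEquiv.coe_toMonoidHom, MulEquiv.symm_apply_apply]
    rw [hφ r _ hr, enc_dec, gQ]
    congr 2
    exact Fin.ext (Nat.mod_eq_of_lt k.2)
  have hstem : Cfsg.IsStemExtension π := by
    refine ⟨fun x => ?_, fun g hg => Subgroup.mem_center_iff.2 fun h =>
      Subtype.ext (Subgroup.mem_center_iff.1 (sg_le ((hker g).1 hg)) h), fun g hg => ?_⟩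
    · obtain ⟨g, hg⟩ := QuotientGroup.mk_surjective (ψ x)
      have hgE : g ∈ E := ⟨x, hg.symm⟩
      exact ⟨⟨g, hgE⟩, hψi (by rw [hπ]; exact hg)⟩
    · obtain ⟨n, hn⟩ := (hker g).1 hg
      have hneg : ⁅(⟨gU 7 1, hmem 7 (by norm_num) 1⟩ : E), ⟨gU 7 2, hmem 7 (by norm_num) 2⟩⁆ ^ n = g := by
        refine Subtype.ext ?_
        rw [SubgroupClass.coe_zpow, ← hn]
        congr 1
        show gU 7 1 * gU 7 2 * (gU 7 1)⁻¹ * (gU 7 2)⁻¹ = -1
        rw [anti_gU]
        have hc : ∀ x : U, x * -1 = -1 * x := fun x => by simp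
        rw [hc (gU 7 2 * gU 7 1)]
        group
      rw [← hneg]
      exact zpow_mem (Subgroup.commutator_mem_commutator (Subgroup.mem_top _) (Subgroup.mem_top _)) _
  have hcard : Nat.card π.ker = 2 := by
    rw [← card_sg]
    refine Nat.card_congr
      { toFun := fun g => ⟨(g.1 : U), (hker g.1).1 g.2⟩
        invFun := fun z => ⟨⟨z.1, ⟨1, ?_⟩⟩, (hker _).2 z.2⟩
        left_inv := fun g => rfl
        right_inv := fun z => rfl }
    rw [map_one]
    exact ((QuotientGroup.eq_one_iff _).2 z.2).symm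
  haveI := Fact.mk Nat.prime_two
  refine CfsgLib.Schur.hasSchurMultiplier_of_witness π hstem
    (mulEquivOfPrimeCardEq (p := 2) hcard ((Nat.card_congr Multiplicative.toAdd).trans (Nat.card_zmod 2)))
    fun Γ _ _ σ hσ => ?_
  rw [Nat.card_congr Multiplicative.toAdd, Nat.card_zmod]
  exact card_ker_le hF σ hσ

end CfsgLib.Known.G2FourMult
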